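import Cfsg.Agent.Lib.Helper75.LW.Defs45

/-!
# LW45 package [E7] (S0745): no sharply 3-transitive group of degree 7
-/

set_option autoImplicit false

namespace Cfsg.Agent.Lib.Helper35.LW

open Cfsg.Agent.Lib.Helper75.LW

universe u

theorem pkgE7 (hKer : PkgKer.{u}) (hCntT : PkgCntT.{u}) (hMono : PkgMono.{u})
    (hExt : PkgExt.{u}) : PkgE7.{u} := by
  intro α _ _ G hT hTriv hn
  have h3 : 2 < Fintype.card α := by omega
  obtain ⟨c, x, w, hcx, hcw, hxw⟩ := Fintype.two_lt_card_iff.mp h3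
  have hT2 : HT G 2 := hMono G 2 3 (by norm_num) (by omega) hT
  have htriv3 : ∀ g ∈ G, ∀ p q r : α, p ≠ q → p ≠ r → q ≠ r → g p = p → g q = q → g r = r →
      g = 1 := by
    intro g hg p q r hpq hpr hqr hp hq hr
    refine hTriv {p, q, r} ?_ g hg ?_
    · rw [Finset.card_insert_of_notMem, Finset.card_insert_of_notMem, Finset.card_singleton]
      · simpa using hqr
      · simp [hpq, hpr]
    · intro a ha
      simp only [Finset.mem_insert, Finset.mem_singleton] at ha
      rcases ha with rfl | rfl | rfl <;> assumption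
  have hc2 : ({c, x} : Finset α).card = 2 := by
    rw [Finset.card_insert_of_notMem (by simpa using hcx), Finset.card_singleton]
  have hc3 : ({c, x, w} : Finset α).card = 3 := by
    rw [Finset.card_insert_of_notMem (by simp [hcx, hcw]),
      Finset.card_insert_of_notMem (by simpa using hxw), Finset.card_singleton]
  have hGcard3 := hCntT G 3 {c, x, w} hc3 hT
  have hPS3 : Nat.card (PS G {c, x, w}) = 1 := by
    rw [Nat.card_eq_one_iff_unique]
    refine ⟨⟨fun a b => ?_⟩, ⟨1⟩⟩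
    have ha := hTriv {c, x, w} hc3 a.1 a.2.1 a.2.2
    have hb := hTriv {c, x, w} hc3 b.1 b.2.1 b.2.2
    exact Subtype.ext (ha.trans hb.symm)
  have hGcard2 := hCntT G 2 {c, x} hc2 hT2
  have hKcard : Nat.card (PS G {c, x}) = 5 := by
    rw [hPS3, hn] at hGcard3
    rw [hn] at hGcard2
    have e3 : Nat.descFactorial 7 3 = 210 := by decide
    have e2 : Nat.descFactorial 7 2 = 42 := by decide
    rw [e3] at hGcard3
    rw [e2] at hGcard2
    omega
  have hx : x ∉ ({c} : Finset α) := by simpa using Ne.symm hcx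
  have hk1 : ∀ y : α, y ∉ ({c} : Finset α) →
      ∃ g ∈ G, (∀ p ∈ ({c} : Finset α), g p = p) ∧ g x = y := by
    intro y hy
    have hyc : y ≠ c := by simpa using hy
    obtain ⟨g, hg, hgφ⟩ := hExt G 2 {c, x} (fun a => if a = c then c else y) hc2 hT2 (by
      intro a ha b hb hab
      simp only [Finset.coe_insert, Finset.coe_singleton, Set.mem_insert_iff,
        Set.mem_singleton_iff] at ha hb
      rcases ha with rfl | rfl <;> rcases hb with rfl | rfl
      · rfl
      · simp [Ne.symm hcx] at hab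
        exact absurd hab.symm hyc
      · simp [Ne.symm hcx] at hab
        exact absurd hab hyc
      · rfl)
    refine ⟨g, hg, ?_, ?_⟩
    · intro p hp
      rw [Finset.mem_singleton] at hp
      subst hp
      simpa using hgφ p (by simp)
    · have := hgφ x (by simp)
      simpa [Ne.symm hcx] using this
  have hk2 : ∀ g ∈ G, (∀ p ∈ ({c} : Finset α), g p = p) → ∀ y z : α, y ∉ ({c} : Finset α) →
      z ∉ ({c} : Finset α) → y ≠ z → g y = y → g z = z → g = 1 := by
    intro g hg hgc y z hy hz hyz hgy hgz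
    have hyc : y ≠ c := by simpa using hy
    have hzc : z ≠ c := by simpa using hz
    exact htriv3 g hg c y z (Ne.symm hyc) (Ne.symm hzc) hyz (hgc c (by simp)) hgy hgz
  have hKnt : Nontrivial (PS G {c, x}) := by
    rw [← Finite.one_lt_card_iff_nontrivial]
    omega
  have hk3 : ∃ g ∈ G, g ≠ 1 ∧ (∀ p ∈ ({c} : Finset α), g p = p) ∧ g x = x := by
    obtain ⟨κ, hκ⟩ := exists_ne (1 : PS G {c, x})
    refine ⟨κ.1, κ.2.1, fun h => hκ (Subtype.ext h), ?_, κ.2.2 x (by simp)⟩
    intro p hp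
    rw [Finset.mem_singleton] at hp
    subst hp
    exact κ.2.2 p (by simp)
  obtain ⟨F, hFG, hFfix, hFtr, hFfree, hFnorm, -⟩ := hKer G {c} x hx hk1 hk2 hk3
  have hFc : ∀ f ∈ F, f c = c := fun f hf => hFfix f hf c (by simp)
  -- `F` is regular on the six points different from `c`
  have hFx : ∀ f ∈ F, f x ≠ c := by
    intro f hf h
    have : f x = f c := by rw [h, hFc f hf]
    exact hcx (f.injective this).symm
  let e : F → {y : α // ¬ (y = c)} := fun f => ⟨f.1 x, hFx f.1 f.2⟩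
  have he : Function.Bijective e := by
    constructor
    · intro f f' hff'
      have h1 : f.1 x = f'.1 x := congrArg Subtype.val hff'
      have h2 : (f'⁻¹ * f).1 x = x := by
        show (f'.1⁻¹ * f.1) x = x
        rw [Equiv.Perm.mul_apply, h1]
        simp
      have h3 := hFfree (f'⁻¹ * f).1 (f'⁻¹ * f).2 h2
      have h4 : f'⁻¹ * f = 1 := Subtype.ext h3
      exact (inv_mul_eq_one.mp h4).symm
    · rintro ⟨y, hy⟩
      obtain ⟨f, hf, hfy⟩ := hFtr y (by simpa using hy)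
      exact ⟨⟨f, hf⟩, Subtype.ext hfy⟩
  have hFcard : Nat.card F = 6 := by
    rw [Nat.card_congr (Equiv.ofBijective e he), Nat.card_eq_fintype_card,
      Fintype.card_subtype_compl, Fintype.card_subtype_eq, hn]
  -- a nontrivial element of `K` centralises no nontrivial element of `F`
  have hKF : ∀ κ ∈ PS G {c, x}, κ ≠ 1 → ∀ f ∈ F, κ * f * κ⁻¹ = f → f = 1 := by
    intro κ hκ hκ1 f hf hcomm
    by_contra hf1
    apply hκ1
    have hfx : f x ≠ x := fun h => hf1 (hFfree f hf h)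
    have hκc : κ c = c := hκ.2 c (by simp)
    have hκx : κ x = x := hκ.2 x (by simp)
    have hκfx : κ (f x) = f x := by
      have h1 : κ * f = f * κ := by
        calc κ * f = (κ * f * κ⁻¹) * κ := by group
          _ = f * κ := by rw [hcomm]
      have h2 := congrArg (fun σ : Equiv.Perm α => σ x) h1
      simp only [Equiv.Perm.mul_apply, hκx] at h2
      exact h2
    exact htriv3 κ hκ.1 c x (f x) hcx (Ne.symm (hFx f hf)) (Ne.symm hfx) hκc hκx hκfx
  have hKnorm : ∀ κ ∈ PS G {c, x}, ∀ f ∈ F, κ * f * κ⁻¹ ∈ F := by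
    intro κ hκ f hf
    refine hFnorm κ hκ.1 ?_ f hf
    intro p hp
    rw [Finset.mem_singleton] at hp
    subst hp
    rw [hκ.2 p (by simp)]
    simp
  -- Cauchy
  have hfinF : Finite F := Finite.of_injective e he.1
  have : Fact (Nat.Prime 2) := ⟨Nat.prime_two⟩
  have : Fact (Nat.Prime 3) := ⟨Nat.prime_three⟩
  obtain ⟨f₂, hf₂⟩ := exists_prime_orderOf_dvd_card' (G := F) 2 (by rw [hFcard]; norm_num)
  obtain ⟨f₃, hf₃⟩ := exists_prime_orderOf_dvd_card' (G := F) 3 (by rw [hFcard]; norm_num)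
  have hf₂1 : f₂ ≠ 1 := by
    intro h
    rw [h, orderOf_one] at hf₂
    omega
  have hf₂sq : f₂ * f₂ = 1 := by
    rw [← pow_two, ← hf₂]
    exact pow_orderOf_eq_one f₂
  -- conjugates of `f₂`
  let φ : PS G {c, x} → {f : F // f ≠ 1} := fun κ =>
    ⟨⟨κ.1 * f₂.1 * κ.1⁻¹, hKnorm κ.1 κ.2 f₂.1 f₂.2⟩, by
      intro h
      apply hf₂1
      have h1 : κ.1 * f₂.1 * κ.1⁻¹ = 1 := congrArg Subtype.val h
      have h2 : f₂.1 = 1 := by
        have : f₂.1 = κ.1⁻¹ * (κ.1 * f₂.1 * κ.1⁻¹) * κ.1 := by group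
        rw [this, h1]
        group
      exact Subtype.ext h2⟩
  have hφinj : Function.Injective φ := by
    intro κ κ' h
    have h1 : κ.1 * f₂.1 * κ.1⁻¹ = κ'.1 * f₂.1 * κ'.1⁻¹ :=
      congrArg (fun z : {f : F // f ≠ 1} => (z.1.1 : Equiv.Perm α)) h
    have h2 : (κ'⁻¹ * κ).1 * f₂.1 * (κ'⁻¹ * κ).1⁻¹ = f₂.1 := by
      show (κ'.1⁻¹ * κ.1) * f₂.1 * (κ'.1⁻¹ * κ.1)⁻¹ = f₂.1
      have : (κ'.1⁻¹ * κ.1) * f₂.1 * (κ'.1⁻¹ * κ.1)⁻¹ = κ'.1⁻¹ * (κ.1 * f₂.1 * κ.1⁻¹) * κ'.1 := by
        group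
      rw [this, h1]
      group
    by_contra hne
    have hne' : (κ'⁻¹ * κ).1 ≠ 1 := by
      intro h3
      apply hne
      have h4 : κ'⁻¹ * κ = 1 := Subtype.ext h3
      exact (inv_mul_eq_one.mp h4).symm
    have := hKF (κ'⁻¹ * κ).1 (κ'⁻¹ * κ).2 hne' f₂.1 f₂.2 h2
    exact hf₂1 (Subtype.ext this)
  have hfinK : Finite (PS G {c, x}) := Nat.finite_of_card_ne_zero (by omega)
  have hcardne : Nat.card {f : F // f ≠ 1} = 5 := by
    classical
    have := Fintype.ofFinite F
    rw [Nat.card_eq_fintype_card, Fintype.card_subtype_compl, Fintype.card_subtype_eq,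
      ← Nat.card_eq_fintype_card, hFcard]
  have hφbij : Function.Bijective φ :=
    hφinj.bijective_of_nat_card_le (by rw [hcardne, hKcard])
  -- every nontrivial element of `F` is an involution
  have hf₃1 : f₃ ≠ 1 := by
    intro h
    rw [h, orderOf_one] at hf₃
    omega
  obtain ⟨κ, hκ⟩ := hφbij.2 ⟨f₃, hf₃1⟩
  have h5 : κ.1 * f₂.1 * κ.1⁻¹ = f₃.1 :=
    congrArg (fun z : {f : F // f ≠ 1} => (z.1.1 : Equiv.Perm α)) hκ
  have h6 : f₃.1 * f₃.1 = 1 := by
    rw [← h5]
    have h7 : f₂.1 * f₂.1 = 1 := congrArg Subtype.val hf₂sq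
    calc κ.1 * f₂.1 * κ.1⁻¹ * (κ.1 * f₂.1 * κ.1⁻¹) = κ.1 * (f₂.1 * f₂.1) * κ.1⁻¹ := by group
      _ = 1 := by rw [h7]; group
  have h8 : f₃ ^ 2 = 1 := by
    rw [pow_two]
    exact Subtype.ext h6
  have h9 := orderOf_dvd_of_pow_eq_one h8
  rw [hf₃] at h9
  omega

end Cfsg.Agent.Lib.Helper35.LW
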